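import Cfsg.Agent.H246.Dl.Defs
import Cfsg.Agent.H593.IMCount2
import Cfsg.Agent.H419.Count

/-!
# Criteria for `Many` (S4769; helper454, task DL-CRIT)

* `Many.of_card`, `Many.of_card_irr` : more than `(m - 1) * |Out S|` irreducible characters of degree
  divisible by `p`;
* `Many.of_numPrime` : at most `b` characters have degree prime to `p` and `(m - 1) * |Out S| + b < k(S)`;
* `Many.of_count`, `Many.of_count'` : counting with the centralizer of a `p`-element;
* `Many.of_indep` : `m` independent `Aut`-invariant class functions supported on characters of degree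
  divisible by `p`;
* `Many.cons`, `Many.of_two`, `Many.of_two_degree` : adding a character.
-/

set_option autoImplicit false

open Cfsg

namespace Cfsg.Agent.H454.DlCrit

open Cfsg.Agent.Characters.Core Cfsg.Agent.H246.Dl
open scoped ComplexConjugate

universe u

section basic

variable {S : Type u} [Group S]

/-- The twist of an irreducible character by an automorphism. -/
def tw (χ : IrrCharacter S) (σ : S ≃* S) : IrrCharacter S :=
  ⟨(χ : S → ℂ) ∘ σ, isIrr_comp σ.toMonoidHom σ.surjective χ.2⟩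

theorem tw_apply (χ : IrrCharacter S) (σ : S ≃* S) (g : S) :
    (tw χ σ : S → ℂ) g = (χ : S → ℂ) (σ g) := rfl

/-- Conjugacy under automorphisms. -/
def Aeq (χ ψ : IrrCharacter S) : Prop := ∃ σ : S ≃* S, ∀ g, (χ : S → ℂ) (σ g) = (ψ : S → ℂ) g

theorem Aeq.refl (χ : IrrCharacter S) : Aeq χ χ := ⟨MulEquiv.refl S, fun _ => rfl⟩

theorem Aeq.symm {χ ψ : IrrCharacter S} (h : Aeq χ ψ) : Aeq ψ χ := by
  obtain ⟨σ, hσ⟩ := h
  refine ⟨σ.symm, fun g => ?_⟩
  rw [← hσ, σ.apply_symm_apply]

theorem Aeq.trans {χ ψ θ : IrrCharacter S} (h : Aeq χ ψ) (h' : Aeq ψ θ) : Aeq χ θ := by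
  obtain ⟨σ, hσ⟩ := h
  obtain ⟨τ, hτ⟩ := h'
  refine ⟨τ.trans σ, fun g => ?_⟩
  rw [MulEquiv.trans_apply, hσ, hτ]

theorem Aeq.charDegree_eq {χ ψ : IrrCharacter S} (h : Aeq χ ψ) :
    charDegree (χ : S → ℂ) = charDegree (ψ : S → ℂ) := by
  obtain ⟨σ, hσ⟩ := h
  have h1 := hσ 1
  rw [map_one] at h1
  simp only [charDegree, h1]

/-- The equivalence relation. -/
def aSetoid (S : Type u) [Group S] : Setoid (IrrCharacter S) :=
  ⟨Aeq, fun χ => Aeq.refl χ, fun h => h.symm, fun h h' => h.trans h'⟩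

theorem mk_eq_iff {χ ψ : IrrCharacter S} :
    (Quotient.mk (aSetoid S) χ) = Quotient.mk (aSetoid S) ψ ↔ Aeq χ ψ :=
  Quotient.eq (r := aSetoid S)

variable {p : ℕ}

/-- `Many` from a set of classes. -/
theorem many_of_classes (s : Finset (Quotient (aSetoid S)))
    (hs : ∀ c ∈ s, ∃ χ : IrrCharacter S, Quotient.mk (aSetoid S) χ = c ∧ p ∣ charDegree (χ : S → ℂ)) :
    Many p S s.card := by
  classical
  choose χ h1 h2 using hs
  refine ⟨fun i => χ (s.equivFin.symm i) (s.equivFin.symm i).2,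
    fun i => h2 _ (s.equivFin.symm i).2, fun i j hij σ => ?_⟩
  by_contra hcon
  push Not at hcon
  apply hij
  have h3 : Aeq (χ (s.equivFin.symm i) (s.equivFin.symm i).2)
      (χ (s.equivFin.symm j) (s.equivFin.symm j).2) := ⟨σ, hcon⟩
  rw [← mk_eq_iff, h1 _ (s.equivFin.symm i).2, h1 _ (s.equivFin.symm j).2] at h3
  exact s.equivFin.symm.injective (Subtype.ext h3)

/-- The outer automorphism group as a set of cosets. -/
abbrev OutQ (S : Type u) [Group S] : Type u := MulAut S ⧸ (MulAut.conj (G := S)).range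

instance instFiniteOutQ454 [Finite S] : Finite (OutQ S) := by
  have : Finite (MulAut S) :=
    Finite.of_injective (fun σ : MulAut S => (σ : S → S)) (fun a b h => MulEquiv.ext (congrFun h))
  exact Quotient.finite _

/-- The twist by a class of automorphisms. -/
def twQ [Finite S] (χ : IrrCharacter S) (o : OutQ S) : IrrCharacter S :=
  Quotient.liftOn' o (fun σ : MulAut S => tw χ σ) (by
    intro σ τ h
    rw [QuotientGroup.leftRel_apply] at h
    obtain ⟨g, hg⟩ := h
    have e : τ = σ * MulAut.conj g := by rw [hg]; group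
    apply Subtype.ext
    funext s
    show (χ : S → ℂ) (σ s) = (χ : S → ℂ) (τ s)
    have h1 : τ s = σ g * σ s * (σ g)⁻¹ := by
      rw [e]
      show σ (g * s * g⁻¹) = _
      rw [map_mul, map_mul, map_inv]
    rw [h1]
    exact (isIrr_isClassFunction χ.2 _ _).symm)

theorem exists_twQ [Finite S] {χ ψ : IrrCharacter S} (h : Aeq χ ψ) : ∃ o, twQ χ o = ψ := by
  obtain ⟨σ, hσ⟩ := h
  refine ⟨QuotientGroup.mk (s := (MulAut.conj (G := S)).range) (σ : MulAut S), ?_⟩
  apply Subtype.ext
  funext s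
  exact hσ s

/-- An `Aut S`-orbit of characters has at most `|Out S|` elements. -/
theorem card_filter_le [Finite S] (χ : IrrCharacter S) (T : Finset (IrrCharacter S))
    (hT : ∀ ψ ∈ T, Aeq χ ψ) : T.card ≤ Nat.card (OutQ S) := by
  classical
  have := Fintype.ofFinite (OutQ S)
  have h1 : T ⊆ Finset.univ.image (twQ χ) := by
    intro ψ hψ
    obtain ⟨o, ho⟩ := exists_twQ (hT ψ hψ)
    exact Finset.mem_image.2 ⟨o, Finset.mem_univ _, ho⟩
  calc T.card ≤ (Finset.univ.image (twQ χ)).card := Finset.card_le_card h1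
    _ ≤ (Finset.univ : Finset (OutQ S)).card := Finset.card_image_le
    _ = Nat.card (OutQ S) := by rw [Finset.card_univ, Nat.card_eq_fintype_card]

/-- **(a)** More than `(m - 1) * |Out S|` irreducible characters of degree divisible by `p`. -/
theorem Many.of_card_irr [Finite S] {m : ℕ} (T : Finset (IrrCharacter S))
    (hT : ∀ χ ∈ T, p ∣ charDegree (χ : S → ℂ))
    (h : (m - 1) * Nat.card (OutQ S) < T.card) : Many p S m := by
  classical
  have h1 : T.card ≤ Nat.card (OutQ S) * (T.image (Quotient.mk (aSetoid S))).card := by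
    refine Finset.card_le_mul_card_image T _ ?_
    intro c hc
    obtain ⟨χ, hχ, rfl⟩ := Finset.mem_image.1 hc
    refine card_filter_le χ _ ?_
    intro ψ hψ
    exact (mk_eq_iff.1 (Finset.mem_filter.1 hψ).2).symm
  have h2 : m ≤ (T.image (Quotient.mk (aSetoid S))).card := by
    have h3 : (m - 1) * Nat.card (OutQ S) <
        (T.image (Quotient.mk (aSetoid S))).card * Nat.card (OutQ S) := by
      rw [mul_comm (Nat.card (OutQ S))] at h1
      exact lt_of_lt_of_le h h1
    have h4 := Nat.lt_of_mul_lt_mul_right h3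
    omega
  refine (many_of_classes (p := p) (T.image (Quotient.mk (aSetoid S))) ?_).mono h2
  intro c hc
  obtain ⟨χ, hχ, rfl⟩ := Finset.mem_image.1 hc
  exact ⟨χ, rfl, hT χ hχ⟩

/-- **(a)** for a set of functions. -/
theorem Many.of_card [Finite S] {m : ℕ} (T : Finset (S → ℂ))
    (hT : ∀ χ ∈ T, IsIrrCharacter S χ ∧ p ∣ charDegree χ)
    (h : (m - 1) * Nat.card (MulAut S ⧸ (MulAut.conj (G := S)).range) < T.card) : Many p S m := by
  classical
  let f : {x // x ∈ T} ↪ IrrCharacter S :=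
    ⟨fun x => ⟨x.1, (hT x.1 x.2).1⟩, fun a b hab => Subtype.ext
      (congrArg (fun χ : IrrCharacter S => (χ : S → ℂ)) hab)⟩
  refine Many.of_card_irr (T.attach.map f) ?_ ?_
  · intro χ hχ
    obtain ⟨x, -, rfl⟩ := Finset.mem_map.1 hχ
    exact (hT x.1 x.2).2
  · rw [Finset.card_map, Finset.card_attach]
    exact h

/-- **(a)** with a bound for `|Out S|`. -/
theorem Many.of_card_out [Finite S] {m o : ℕ} (ho : Nat.card (OutQ S) ≤ o)
    (T : Finset (S → ℂ)) (hT : ∀ χ ∈ T, IsIrrCharacter S χ ∧ p ∣ charDegree χ)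
    (h : (m - 1) * o < T.card) : Many p S m :=
  Many.of_card T hT (lt_of_le_of_lt (Nat.mul_le_mul_left _ ho) h)

/-- `|Out S| = 1` if all automorphisms are inner. -/
theorem card_out_of_inner [Finite S] (h : ∀ σ : MulAut S, ∃ g : S, σ = MulAut.conj g) :
    Nat.card (OutQ S) ≤ 1 := by
  have : Subsingleton (OutQ S) := by
    refine ⟨fun a b => ?_⟩
    induction a using QuotientGroup.induction_on with
    | H σ =>
      induction b using QuotientGroup.induction_on with
      | H τ =>
        rw [QuotientGroup.eq]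
        obtain ⟨g, hg⟩ := h (σ⁻¹ * τ)
        exact ⟨g, hg.symm⟩
  exact Finite.card_le_one_iff_subsingleton.2 this

/-- `|Out S|` from the order of the automorphism group. -/
theorem card_out_mul [Finite S] [IsSimpleGroup S] (hna : ¬ IsMulCommutative S) :
    Nat.card (OutQ S) * Nat.card S = Nat.card (MulAut S) := by
  have h1 : Function.Injective (MulAut.conj (G := S)) := by
    rw [← MonoidHom.ker_eq_bot_iff]
    rcases (MulAut.conj (G := S)).normal_ker.eq_bot_or_eq_top with h | h
    · exact h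
    · exfalso
      apply hna
      refine ⟨⟨fun a b => ?_⟩⟩
      have h2 : a ∈ (MulAut.conj (G := S)).ker := by rw [h]; exact Subgroup.mem_top a
      have h3 := DFunLike.congr_fun (MonoidHom.mem_ker.1 h2) b
      rw [MulAut.conj_apply, MulAut.one_apply, mul_inv_eq_iff_eq_mul] at h3
      exact h3
  have h2 := Subgroup.card_eq_card_quotient_mul_card_subgroup (MulAut.conj (G := S)).range
  rw [h2]
  congr 1
  exact Nat.card_congr (MonoidHom.ofInjective h1).toEquiv

/-! ### (b) counting -/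

theorem card_irr_filter [Finite S] [Fintype (IrrCharacter S)] (q : IrrCharacter S → Prop)
    [DecidablePred q] {b : ℕ} (hb : Nat.card {χ : IrrCharacter S // ¬ q χ} ≤ b) :
    Nat.card (ConjClasses S) ≤ (Finset.univ.filter q).card + b := by
  rw [← card_irr, Nat.card_eq_fintype_card, ← Finset.card_univ,
    ← Finset.card_filter_add_card_filter_not (s := Finset.univ) q]
  rw [Nat.card_eq_fintype_card, Fintype.card_subtype] at hb
  omega

/-- **(b0)** At most `b` characters of degree prime to `p`. -/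
theorem Many.of_numPrime [Finite S] {m b o : ℕ} (ho : Nat.card (OutQ S) ≤ o)
    (hb : Nat.card {χ : IrrCharacter S // ¬ p ∣ charDegree (χ : S → ℂ)} ≤ b)
    (h : (m - 1) * o + b < Nat.card (ConjClasses S)) : Many p S m := by
  classical
  have := finite_irr (G := S)
  have := Fintype.ofFinite (IrrCharacter S)
  refine Many.of_card_irr (Finset.univ.filter fun χ : IrrCharacter S => p ∣ charDegree (χ : S → ℂ))
    (fun χ hχ => (Finset.mem_filter.1 hχ).2) ?_
  have h1 := card_irr_filter (fun χ : IrrCharacter S => p ∣ charDegree (χ : S → ℂ)) hb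
  have h2 : (m - 1) * Nat.card (OutQ S) ≤ (m - 1) * o := Nat.mul_le_mul_left _ ho
  omega

/-- The number of irreducible characters of degree prime to `p` is at most the number of those which
do not vanish at a given `p`-element. -/
theorem card_prime_le [hp : Fact p.Prime] [Finite S] {x : S} (hx : ∃ j : ℕ, orderOf x = p ^ j) :
    Nat.card {χ : IrrCharacter S // ¬ p ∣ charDegree (χ : S → ℂ)} ≤
      Nat.card {χ : IrrCharacter S // (χ : S → ℂ) x ≠ 0} := by
  have := finite_irr (G := S)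
  refine Nat.card_le_card_of_injective (fun χ => ⟨χ.1, fun h0 => χ.2 ?_⟩) ?_
  · exact Cfsg.Agent.S4558.result p (χ.1 : S → ℂ) (isIrr_isCharacter χ.1.2) x hx h0
  · intro a b hab
    exact Subtype.ext (congrArg (fun y : {χ : IrrCharacter S // (χ : S → ℂ) x ≠ 0} => y.1) hab)

open Cfsg.Agent.H593.IMCount in
/-- At most `|C_G(x)|_p * l(C_G(x))` irreducible characters do not vanish at the `p`-element `x`. -/
theorem card_nonzero_le' [hp : Fact p.Prime] [Finite S] {x : S} (hx : ∃ j : ℕ, orderOf x = p ^ j) :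
    Nat.card {χ : IrrCharacter S // (χ : S → ℂ) x ≠ 0} ≤
      p ^ (Nat.card (Subgroup.centralizer ({x} : Set S))).factorization p *
        numReg p (Subgroup.centralizer ({x} : Set S)) := by
  classical
  have := Fintype.ofFinite S
  have := Fintype.ofFinite (Subgroup.centralizer ({x} : Set S))
  have hfin := finite_irr (G := S)
  have := Fintype.ofFinite (IrrCharacter S)
  have : NeZero (Nat.card S) := ⟨Nat.card_pos.ne'⟩
  set A : Finset (IrrCharacter S) := Finset.univ.filter fun χ => (χ : S → ℂ) x ≠ 0 with hA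
  have h1 : ∀ χ ∈ A, (Fintype.card (ZMod (Nat.card S))ˣ : ℝ) ≤
      ∑ u : (ZMod (Nat.card S))ˣ, RR p (χ : S → ℂ) x (u : ZMod (Nat.card S)).val := fun χ hχ =>
    card_le_sum_nonneg (galFam_FF (p := p) (x := x) (isIrr_isCharacter χ.2))
      (RR_one_ne_zero (Finset.mem_filter.1 hχ).2) (fun k => FF_eq_real _ k)
      (fun k => RR_nonneg _ k)
  have h2 := Finset.sum_le_sum (s := A) fun χ hχ => h1 χ hχ
  have h2' : ∑ χ ∈ A, ∑ u : (ZMod (Nat.card S))ˣ, RR p (χ : S → ℂ) x (u : ZMod (Nat.card S)).val ≤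
      ∑ χ : IrrCharacter S, ∑ u : (ZMod (Nat.card S))ˣ,
        RR p (χ : S → ℂ) x (u : ZMod (Nat.card S)).val :=
    Finset.sum_le_sum_of_subset_of_nonneg (Finset.subset_univ _)
      (fun χ _ _ => Finset.sum_nonneg fun u _ => RR_nonneg _ _)
  replace h2 := h2.trans h2'
  rw [Finset.sum_const, Finset.sum_comm] at h2
  have h3 : ∀ u : (ZMod (Nat.card S))ˣ, ∑ χ : IrrCharacter S,
      RR p (χ : S → ℂ) x (u : ZMod (Nat.card S)).val =
      (p ^ (Nat.card (Subgroup.centralizer ({x} : Set S))).factorization p *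
        numReg p (Subgroup.centralizer ({x} : Set S)) : ℕ) := fun u =>
    sum_RR hx (ZMod.val_coe_unit_coprime u)
  simp only [h3] at h2
  rw [Finset.sum_const, Finset.card_univ, nsmul_eq_mul, nsmul_eq_mul,
    mul_comm (Fintype.card (ZMod (Nat.card S))ˣ : ℝ)] at h2
  have hpos : (0 : ℝ) < Fintype.card (ZMod (Nat.card S))ˣ := by exact_mod_cast Fintype.card_pos
  have h4 := le_of_mul_le_mul_right h2 hpos
  have h5 : A.card ≤
      p ^ (Nat.card (Subgroup.centralizer ({x} : Set S))).factorization p *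
        numReg p (Subgroup.centralizer ({x} : Set S)) := by exact_mod_cast h4
  rw [Nat.card_eq_fintype_card, Fintype.card_subtype]
  exact h5

/-- At most `|C_G(x)|` irreducible characters do not vanish at `x`. -/
theorem card_nonzero_le [Finite S] (x : S) :
    Nat.card {χ : IrrCharacter S // (χ : S → ℂ) x ≠ 0} ≤
      Nat.card (Subgroup.centralizer ({x} : Set S)) := by
  classical
  have : Finite (IrrCharacter S) := finite_irr
  have := Fintype.ofFinite (IrrCharacter S)
  set A : Finset (IrrCharacter S) := Finset.univ.filter fun χ => (χ : S → ℂ) x ≠ 0 with hA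
  have hcon : ∀ χ ∈ A, (χ : S → ℂ) x ≠ 0 := fun χ h => (Finset.mem_filter.1 h).2
  set P : ℂ := ∏ χ ∈ A, (χ : S → ℂ) x with hP
  have hP0 : P ≠ 0 := Finset.prod_ne_zero_iff.mpr hcon
  have hPint : IsIntegral ℤ P := by
    refine IsIntegral.prod _ fun χ _ => ?_
    exact Cfsg.Agent.Characters.GaloisBasic.isIntegral_apply (isIrr_isCharacter χ.2) x
  have hfix : ∀ σ : ℂ ≃+* ℂ, σ P = P := by
    intro σ
    rw [hP, map_prod]
    let f : IrrCharacter S → IrrCharacter S := fun χ =>
      ⟨fun g => σ ((χ : S → ℂ) g), Cfsg.Agent.Characters.GaloisIrr.isIrr_map σ χ.2⟩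
    have hf : Function.Injective f := by
      intro χ ψ h
      apply Subtype.ext
      funext g
      have h1 := congrFun (congrArg (fun χ : IrrCharacter S => (χ : S → ℂ)) h) g
      exact σ.injective h1
    have hb : Function.Bijective f := Finite.injective_iff_bijective.1 hf
    let e : IrrCharacter S ≃ IrrCharacter S := Equiv.ofBijective f hb
    have hAe : ∀ χ, χ ∈ A ↔ e χ ∈ A := by
      intro χ
      simp only [hA, Finset.mem_filter, Finset.mem_univ, true_and]
      show (χ : S → ℂ) x ≠ 0 ↔ σ ((χ : S → ℂ) x) ≠ 0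
      rw [Ne, Ne, map_eq_zero_iff σ σ.injective]
    exact Finset.prod_equiv e hAe (fun χ _ => rfl)
  obtain ⟨k, hk⟩ := Cfsg.Agent.Characters.GaloisBasic.exists_int_of_isIntegral hPint
    (Cfsg.Agent.Characters.GaloisBasic.exists_rat_of_forall_ringEquiv (hPint.tower_top) hfix)
  have hk0 : k ≠ 0 := by
    rintro rfl
    exact hP0 (by rw [hk]; simp)
  have hPnorm : 1 ≤ ‖P‖ := by
    rw [hk, Complex.norm_intCast]
    exact_mod_cast Int.one_le_abs hk0
  have hpos : ∀ χ ∈ A, 0 < ‖(χ : S → ℂ) x‖ ^ 2 := fun χ hχ => by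
    have := norm_pos_iff.mpr (hcon χ hχ)
    positivity
  have hAG : (A.card : ℝ) ≤ ∑ χ ∈ A, ‖(χ : S → ℂ) x‖ ^ 2 := by
    have h1 : ∑ χ ∈ A, (Real.log (‖(χ : S → ℂ) x‖ ^ 2) + 1) ≤
        ∑ χ ∈ A, ‖(χ : S → ℂ) x‖ ^ 2 := by
      refine Finset.sum_le_sum fun g hg => ?_
      have := Real.log_le_sub_one_of_pos (hpos g hg)
      linarith
    have h2 : 0 ≤ ∑ χ ∈ A, Real.log (‖(χ : S → ℂ) x‖ ^ 2) := by
      rw [← Real.log_prod (fun g hg => (hpos g hg).ne'), Finset.prod_pow, ← norm_prod]
      apply Real.log_nonneg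
      exact one_le_pow₀ hPnorm
    rw [Finset.sum_add_distrib, Finset.sum_const, nsmul_eq_mul, mul_one] at h1
    linarith
  have hsum : ((∑ χ : IrrCharacter S, ‖(χ : S → ℂ) x‖ ^ 2 : ℝ) : ℂ) =
      Nat.card (Subgroup.centralizer ({x} : Set S)) := by
    have h1 := (Cfsg.Agent.S0145.result x x).1 (IsConj.refl x)
    rw [finsum_eq_sum_of_fintype] at h1
    rw [← h1, Complex.ofReal_sum]
    refine Finset.sum_congr rfl fun χ _ => ?_
    rw [Complex.mul_conj, Complex.normSq_eq_norm_sq]
  have hsum' : ∑ χ : IrrCharacter S, ‖(χ : S → ℂ) x‖ ^ 2 =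
      (Nat.card (Subgroup.centralizer ({x} : Set S)) : ℝ) := by exact_mod_cast hsum
  have h6 : ∑ χ ∈ A, ‖(χ : S → ℂ) x‖ ^ 2 ≤ ∑ χ : IrrCharacter S, ‖(χ : S → ℂ) x‖ ^ 2 :=
    Finset.sum_le_sum_of_subset_of_nonneg (Finset.subset_univ _) (fun χ _ _ => by positivity)
  rw [hsum'] at h6
  rw [Nat.card_eq_fintype_card, Fintype.card_subtype]
  exact_mod_cast hAG.trans h6

/-- **(b)** Counting with the centralizer of a `p`-element. -/
theorem Many.of_count [hp : Fact p.Prime] [Finite S] {m : ℕ} {x : S}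
    (hx : ∃ j : ℕ, orderOf x = p ^ j)
    (h : (m - 1) * Nat.card (MulAut S ⧸ (MulAut.conj (G := S)).range) +
      Nat.card (Subgroup.centralizer ({x} : Set S)) < Nat.card (ConjClasses S)) : Many p S m :=
  Many.of_numPrime le_rfl ((card_prime_le hx).trans (card_nonzero_le x)) h

/-- **(b)** Counting with the centralizer of a `p`-element, `|Out S| ≤ o`, `c ≤ k(S)`. -/
theorem Many.of_count_le [hp : Fact p.Prime] [Finite S] {m o c : ℕ} {x : S}
    (hx : ∃ j : ℕ, orderOf x = p ^ j) (ho : Nat.card (OutQ S) ≤ o)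
    (hc : c ≤ Nat.card (ConjClasses S))
    (h : (m - 1) * o + Nat.card (Subgroup.centralizer ({x} : Set S)) < c) : Many p S m :=
  Many.of_numPrime ho ((card_prime_le hx).trans (card_nonzero_le x)) (lt_of_lt_of_le h hc)

open Cfsg.Agent.H593.IMCount in
/-- **(b')** Counting with `|C_G(x)|_p * l(C_G(x))`. -/
theorem Many.of_count' [hp : Fact p.Prime] [Finite S] {m : ℕ} {x : S}
    (hx : ∃ j : ℕ, orderOf x = p ^ j)
    (h : (m - 1) * Nat.card (MulAut S ⧸ (MulAut.conj (G := S)).range) +
      p ^ (Nat.card (Subgroup.centralizer ({x} : Set S))).factorization p *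
        numReg p (Subgroup.centralizer ({x} : Set S)) < Nat.card (ConjClasses S)) : Many p S m :=
  Many.of_numPrime le_rfl ((card_prime_le hx).trans (card_nonzero_le' hx)) h

open Cfsg.Agent.H593.IMCount in
/-- **(b')** with bounds. -/
theorem Many.of_count_le' [hp : Fact p.Prime] [Finite S] {m o c b : ℕ} {x : S}
    (hx : ∃ j : ℕ, orderOf x = p ^ j) (ho : Nat.card (OutQ S) ≤ o)
    (hc : c ≤ Nat.card (ConjClasses S))
    (hb : p ^ (Nat.card (Subgroup.centralizer ({x} : Set S))).factorization p *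
        numReg p (Subgroup.centralizer ({x} : Set S)) ≤ b)
    (h : (m - 1) * o + b < c) : Many p S m :=
  Many.of_numPrime ho (((card_prime_le hx).trans (card_nonzero_le' hx)).trans hb)
    (lt_of_lt_of_le h hc)

open Cfsg.Agent.H593.IMCount in
/-- **(b')** quotient form: `f : C_G(x) → K` onto with `p`-group kernel. -/
theorem Many.of_count_surjective [hp : Fact p.Prime] [Finite S] {K : Type*} [Group K] [Finite K]
    {m o c : ℕ} {x : S} (hx : ∃ j : ℕ, orderOf x = p ^ j) (ho : Nat.card (OutQ S) ≤ o)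
    (hc : c ≤ Nat.card (ConjClasses S))
    (f : Subgroup.centralizer ({x} : Set S) →* K) (hf : Function.Surjective f)
    (hker : IsPGroup p f.ker)
    (h : (m - 1) * o + p ^ (Nat.card (Subgroup.centralizer ({x} : Set S))).factorization p *
        numReg p K < c) : Many p S m :=
  Many.of_count_le' hx ho hc (Nat.mul_le_mul_left _ (numReg_le_of_surjective f hf hker)) h

open Cfsg.Agent.H593.IMCount in
/-- **(b')** `x` of order `p`, `p² ∤ |C_G(x)|`, at most `#ι` classes of `p'`-elements in `C_G(x)`. -/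
theorem Many.of_count_prime [hp : Fact p.Prime] [Finite S] {m o c : ℕ} {x : S}
    (hx : orderOf x = p) (ho : Nat.card (OutQ S) ≤ o) (hc : c ≤ Nat.card (ConjClasses S))
    (hC : ¬ p ^ 2 ∣ Nat.card (Subgroup.centralizer ({x} : Set S))) {ι : Type*} [Fintype ι]
    (t : ι → Subgroup.centralizer ({x} : Set S))
    (ht : ∀ c : Subgroup.centralizer ({x} : Set S), ¬ p ∣ orderOf c → ∃ i, IsConj (t i) c)
    (hlt : (m - 1) * o + p * Fintype.card ι < c) : Many p S m := by
  refine Many.of_count_le' (b := p * Fintype.card ι) ⟨1, by rw [pow_one]; exact hx⟩ ho hc ?_ hlt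
  have h1 : (Nat.card (Subgroup.centralizer ({x} : Set S))).factorization p ≤ 1 := by
    by_contra h
    push Not at h
    exact hC ((Nat.pow_dvd_pow p h).trans (Nat.ordProj_dvd _ _))
  refine Nat.mul_le_mul ?_ (numReg_le t ht)
  calc p ^ _ ≤ p ^ 1 := Nat.pow_le_pow_right hp.out.pos h1
    _ = p := pow_one p

/-- **(b)** with the number of classes bounded below by the number of element orders. -/
theorem Many.of_orders [hp : Fact p.Prime] [Finite S] {m o : ℕ} {x : S}
    (hx : ∃ j : ℕ, orderOf x = p ^ j) (ho : Nat.card (OutQ S) ≤ o)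
    (s : Finset ℕ) (hs : ∀ n ∈ s, ∃ g : S, orderOf g = n)
    (h : (m - 1) * o + Nat.card (Subgroup.centralizer ({x} : Set S)) < s.card) : Many p S m :=
  Many.of_count_le hx ho (Cfsg.Agent.H419.Count.card_orders_le s hs) h

/-! ### (c) independent invariant class functions -/

theorem classInner_tw [Fintype S] (f : S → ℂ) (χ : IrrCharacter S) (σ : S ≃* S)
    (hf : ∀ g, f (σ g) = f g) : classInner f (tw χ σ : S → ℂ) = classInner f (χ : S → ℂ) := by
  unfold classInner
  congr 1
  refine Fintype.sum_equiv σ.toEquiv _ _ fun g => ?_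
  show f g * conj ((χ : S → ℂ) (σ g)) = f (σ g) * conj ((χ : S → ℂ) (σ g))
  rw [hf]

/-- **(c)** `m` linearly independent `Aut S`-invariant class functions all of whose constituents have
degree divisible by `p`. -/
theorem Many.of_indep [Fintype S] {m : ℕ} (ψ : Fin m → (S → ℂ)) (hli : LinearIndependent ℂ ψ)
    (hcf : ∀ i, IsClassFunction S (ψ i)) (hA : ∀ i (σ : S ≃* S) g, ψ i (σ g) = ψ i g)
    (hp : ∀ i (χ : IrrCharacter S), classInner (ψ i) (χ : S → ℂ) ≠ 0 →
      p ∣ charDegree (χ : S → ℂ)) : Many p S m := by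
  classical
  have := finite_irr (G := S)
  have := Fintype.ofFinite (IrrCharacter S)
  set T : Finset (IrrCharacter S) :=
    Finset.univ.filter fun χ : IrrCharacter S => p ∣ charDegree (χ : S → ℂ) with hT
  set s : Finset (Quotient (aSetoid S)) := T.image (Quotient.mk (aSetoid S)) with hs
  have h0 : Many p S s.card := many_of_classes (p := p) s (by
    intro c hc
    obtain ⟨χ, hχ, rfl⟩ := Finset.mem_image.1 hc
    exact ⟨χ, rfl, (Finset.mem_filter.1 hχ).2⟩)
  refine h0.mono ?_
  let θ : Quotient (aSetoid S) → (S → ℂ) := fun c =>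
    ∑ χ ∈ T.filter (fun χ => Quotient.mk (aSetoid S) χ = c), (χ : S → ℂ)
  have hspan : Set.range ψ ≤ (Submodule.span ℂ (s.image θ : Set (S → ℂ)) : Set (S → ℂ)) := by
    rintro _ ⟨i, rfl⟩
    have h1 : ψ i = ∑ χ ∈ T, classInner (ψ i) (χ : S → ℂ) • (χ : S → ℂ) := by
      conv_lhs => rw [classFunction_eq_sum (hcf i)]
      rw [hT, Finset.sum_filter]
      refine Finset.sum_congr rfl fun χ _ => ?_
      by_cases h : classInner (ψ i) (χ : S → ℂ) = 0
      · rw [h, zero_smul, ite_self]
      · rw [if_pos (hp i χ h)]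
    have h2 : ψ i = ∑ c ∈ s, ∑ χ ∈ T.filter (fun χ => Quotient.mk (aSetoid S) χ = c),
        classInner (ψ i) (χ : S → ℂ) • (χ : S → ℂ) := by
      rw [Finset.sum_fiberwise_of_maps_to (fun χ hχ => Finset.mem_image_of_mem _ hχ)]
      exact h1
    rw [h2]
    refine Submodule.sum_mem _ fun c hc => ?_
    obtain ⟨χ₀, hχ₀, rfl⟩ := Finset.mem_image.1 hc
    have h3 : ∀ χ ∈ T.filter (fun χ => Quotient.mk (aSetoid S) χ = Quotient.mk (aSetoid S) χ₀),
        classInner (ψ i) (χ : S → ℂ) • (χ : S → ℂ) =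
          classInner (ψ i) (χ₀ : S → ℂ) • (χ : S → ℂ) := by
      intro χ hχ
      obtain ⟨σ, hσ⟩ := (mk_eq_iff.1 (Finset.mem_filter.1 hχ).2).symm
      have h4 : tw χ₀ σ = χ := Subtype.ext (funext hσ)
      rw [← h4, classInner_tw _ _ _ (hA i σ)]
    rw [Finset.sum_congr rfl h3, ← Finset.smul_sum]
    refine Submodule.smul_mem _ _ (Submodule.subset_span ?_)
    exact_mod_cast Finset.mem_image_of_mem θ hc
  have h5 := linearIndependent_le_span_aux' ψ hli (s.image θ : Set (S → ℂ)) hspan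
  rw [Fintype.card_fin] at h5
  refine h5.trans ?_
  have h6 : Fintype.card ↑((s.image θ : Finset (S → ℂ)) : Set (S → ℂ)) = (s.image θ).card := by
    simp
  rw [h6]
  exact Finset.card_image_le

omit [Group S] in
/-- A triangular family of class functions is independent: `ψ j (x k) = 0` for `j < k` and
`ψ k (x k) ≠ 0`. -/
theorem linearIndependent_of_triangular {m : ℕ} (ψ : Fin m → (S → ℂ)) (x : Fin m → S)
    (h0 : ∀ j k, j < k → ψ j (x k) = 0) (h1 : ∀ k, ψ k (x k) ≠ 0) : LinearIndependent ℂ ψ := by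
  rw [Fintype.linearIndependent_iff]
  intro a ha
  have key : ∀ n : ℕ, ∀ i : Fin m, m - 1 - (i : ℕ) = n → a i = 0 := by
    intro n
    induction n using Nat.strong_induction_on with
    | _ n ih =>
      intro i hi
      have h2 := congrFun ha (x i)
      rw [Finset.sum_apply] at h2
      rw [Finset.sum_eq_single i] at h2
      · simp only [Pi.smul_apply, smul_eq_mul, Pi.zero_apply, mul_eq_zero] at h2
        exact h2.resolve_right (h1 i)
      · intro j _ hj
        rw [Pi.smul_apply, smul_eq_mul]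
        rcases lt_or_gt_of_ne hj with h | h
        · rw [h0 j i h, mul_zero]
        · have h3 : (i : ℕ) < (j : ℕ) := h
          rw [ih (m - 1 - (j : ℕ)) (by have := j.2; omega) j rfl, zero_mul]
      · intro h
        exact absurd (Finset.mem_univ i) h
  exact fun i => key _ i rfl

/-! ### (d) adding characters -/

/-- **(d)** One more orbit. -/
theorem Many.cons {m : ℕ} (χ : Fin m → IrrCharacter S) (hχ : ∀ i, p ∣ charDegree (χ i : S → ℂ))
    (hne : ∀ i j, i ≠ j → ∀ σ : S ≃* S, ∃ g, (χ i : S → ℂ) (σ g) ≠ (χ j : S → ℂ) g)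
    (ψ : IrrCharacter S) (hψ : p ∣ charDegree (ψ : S → ℂ))
    (hψχ : ∀ i, ∀ σ : S ≃* S, ∃ g, (ψ : S → ℂ) (σ g) ≠ (χ i : S → ℂ) g) : Many p S (m + 1) := by
  have hsymm : ∀ {α β : IrrCharacter S}, (∀ σ : S ≃* S, ∃ g, (α : S → ℂ) (σ g) ≠ (β : S → ℂ) g) →
      ∀ σ : S ≃* S, ∃ g, (β : S → ℂ) (σ g) ≠ (α : S → ℂ) g := by
    intro α β h σ
    obtain ⟨s, hs⟩ := h σ.symm
    refine ⟨σ.symm s, fun h2 => hs ?_⟩
    rw [σ.apply_symm_apply] at h2
    exact h2.symm
  refine ⟨Fin.cons ψ χ, fun i => ?_, fun i j hij => ?_⟩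
  · refine Fin.cases ?_ (fun i => ?_) i
    · exact hψ
    · exact hχ i
  · revert hij
    refine Fin.cases ?_ (fun i => ?_) i
    · refine Fin.cases ?_ (fun j => ?_) j
      · intro h
        exact absurd rfl h
      · intro _
        exact hψχ j
    · refine Fin.cases ?_ (fun j => ?_) j
      · intro _
        exact hsymm (hψχ i)
      · intro h
        exact hne i j (fun h' => h (by rw [h']))

/-- **(d)** One more orbit, distinguished by an `Aut`-invariant property. -/
theorem Many.cons_of_prop {m : ℕ} (Pr : IrrCharacter S → Prop)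
    (hPr : ∀ χ ψ : IrrCharacter S, Aeq χ ψ → Pr χ → Pr ψ)
    (χ : Fin m → IrrCharacter S) (hχ : ∀ i, p ∣ charDegree (χ i : S → ℂ))
    (hne : ∀ i j, i ≠ j → ∀ σ : S ≃* S, ∃ g, (χ i : S → ℂ) (σ g) ≠ (χ j : S → ℂ) g)
    (hP : ∀ i, Pr (χ i)) (ψ : IrrCharacter S) (hψ : p ∣ charDegree (ψ : S → ℂ)) (hψP : ¬ Pr ψ) :
    Many p S (m + 1) := by
  refine Many.cons χ hχ hne ψ hψ fun i σ => ?_
  by_contra hcon
  push Not at hcon
  exact hψP (hPr _ _ (Aeq.symm ⟨σ, hcon⟩) (hP i))

/-- **(d)** One more orbit, distinguished by the degree. -/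
theorem Many.cons_of_degree {m : ℕ} (χ : Fin m → IrrCharacter S)
    (hχ : ∀ i, p ∣ charDegree (χ i : S → ℂ))
    (hne : ∀ i j, i ≠ j → ∀ σ : S ≃* S, ∃ g, (χ i : S → ℂ) (σ g) ≠ (χ j : S → ℂ) g)
    (ψ : IrrCharacter S) (hψ : p ∣ charDegree (ψ : S → ℂ))
    (hd : ∀ i, charDegree (ψ : S → ℂ) ≠ charDegree (χ i : S → ℂ)) : Many p S (m + 1) := by
  refine Many.cons χ hχ hne ψ hψ fun i σ => ⟨1, fun h => hd i ?_⟩
  rw [map_one] at h
  simp only [charDegree, h]

/-- **(e)** `Two` gives `Many p S 2`. -/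
theorem Many.of_two (h : H596.OneFacts.Two p S) : Many p S 2 := by
  obtain ⟨α, β, ha, hb, hσ⟩ := h
  have h1 : Many p S (1 + 1) := Many.cons (fun _ : Fin 1 => β) (fun _ => hb)
    (fun i j hij => absurd (Subsingleton.elim i j) hij) α ha (fun _ σ => hσ σ)
  exact h1

/-- **(e)** Two orbits of characters whose degrees avoid a third degree. -/
theorem Many.of_two_degree {α β ψ : IrrCharacter S} (ha : p ∣ charDegree (α : S → ℂ))
    (hb : p ∣ charDegree (β : S → ℂ)) (hψ : p ∣ charDegree (ψ : S → ℂ))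
    (hab : ∀ σ : S ≃* S, ∃ g, (α : S → ℂ) (σ g) ≠ (β : S → ℂ) g)
    (h1 : charDegree (ψ : S → ℂ) ≠ charDegree (α : S → ℂ))
    (h2 : charDegree (ψ : S → ℂ) ≠ charDegree (β : S → ℂ)) : Many p S 3 := by
  have hsymm : ∀ σ : S ≃* S, ∃ g, (β : S → ℂ) (σ g) ≠ (α : S → ℂ) g := by
    intro σ
    obtain ⟨s, hs⟩ := hab σ.symm
    refine ⟨σ.symm s, fun h2 => hs ?_⟩
    rw [σ.apply_symm_apply] at h2
    exact h2.symm
  have h3 : Many p S (2 + 1) := by
    refine Many.cons_of_degree ![α, β] ?_ ?_ ψ hψ ?_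
    · intro i
      fin_cases i
      · exact ha
      · exact hb
    · intro i j hij
      fin_cases i <;> fin_cases j
      · exact absurd rfl hij
      · exact hab
      · exact hsymm
      · exact absurd rfl hij
    · intro i
      fin_cases i
      · exact h1
      · exact h2
  exact h3

/-- **(e)** Three different degrees. -/
theorem Many.of_three {a b c : ℕ} (hab : a ≠ b) (hac : a ≠ c) (hbc : b ≠ c)
    (ha : p ∣ a ∧ ∃ χ : S → ℂ, IsIrrCharacter S χ ∧ χ 1 = a)
    (hb : p ∣ b ∧ ∃ χ : S → ℂ, IsIrrCharacter S χ ∧ χ 1 = b)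
    (hc : p ∣ c ∧ ∃ χ : S → ℂ, IsIrrCharacter S χ ∧ χ 1 = c) : Many p S 3 := by
  have h1 : ({a, b, c} : Finset ℕ).card = 3 := by
    rw [Finset.card_insert_of_notMem (by simp [hab, hac]),
      Finset.card_insert_of_notMem (by simp [hbc]), Finset.card_singleton]
  have h2 := Many.of_finset (p := p) (S := S) (D := {a, b, c}) (by
    intro d hd
    simp only [Finset.mem_insert, Finset.mem_singleton] at hd
    rcases hd with rfl | rfl | rfl
    · exact ha
    · exact hb
    · exact hc)
  rwa [h1] at h2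

end basic

end Cfsg.Agent.H454.DlCrit
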